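import Mathlib
import Cfsg.Agent.Lib.PrimePower.Nonsolvable
import Cfsg.Agent.Lib.Blocks.NoTwoP.Inverting
import Cfsg.Agent.Lib.ZStar.Main
import Cfsg.Agent.S0195
import Cfsg.Agent.S0196

/-!
# Groups in which all element orders are at most five: basic facts
-/

set_option autoImplicit false
set_option linter.style.haveILetI false
set_option linter.unusedSectionVars false

namespace CfsgLib.SpecFive

/-- Every element has order at most five. -/
def SF (G : Type*) [Group G] : Prop := ∀ g : G, g ^ 4 = 1 ∨ g ^ 3 = 1 ∨ g ^ 5 = 1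

variable {G : Type*} [Group G]

namespace SF

theorem of_range [Finite G] (h : Set.range (orderOf : G → ℕ) = {k : ℕ | 1 ≤ k ∧ k ≤ 5}) : SF G := by
  intro g
  obtain ⟨h1, h5⟩ : 1 ≤ orderOf g ∧ orderOf g ≤ 5 := h.le ⟨g, rfl⟩
  have hp : ∀ n, orderOf g ∣ n → g ^ n = 1 := fun n hn => orderOf_dvd_iff_pow_eq_one.mp hn
  generalize hn : orderOf g = n at h1 h5 hp
  interval_cases n
  · exact Or.inl (hp _ (by norm_num))
  · exact Or.inl (hp _ (by norm_num))
  · exact Or.inr (Or.inl (hp _ (by norm_num)))
  · exact Or.inl (hp _ (by norm_num))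
  · exact Or.inr (Or.inr (hp _ (by norm_num)))

theorem quotient (h : SF G) (N : Subgroup G) [N.Normal] : SF (G ⧸ N) := by
  intro x
  induction x using QuotientGroup.induction_on with
  | _ g =>
    simp only [← QuotientGroup.mk_pow]
    rcases h g with e | e | e <;> simp [e]

theorem subgroup (h : SF G) (H : Subgroup G) : SF ↥H := fun x => by
  simpa [Subtype.ext_iff] using h (x : G)

variable (h : SF G)
include h

theorem orderOf_cases (g : G) : orderOf g ∈ ({1, 2, 3, 4, 5} : Finset ℕ) := by
  rcases h g with e | e | e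
  all_goals
    have hd := orderOf_dvd_of_pow_eq_one e
    have := Nat.le_of_dvd (by norm_num) hd
    generalize orderOf g = n at *
    interval_cases n <;> first | (simp; done) | (norm_num at hd; done)

theorem isPP [Finite G] : CfsgLib.PrimePower.IsPP G := by
  intro g hg
  have h' := h.orderOf_cases g
  simp only [Finset.mem_insert, Finset.mem_singleton] at h'
  rcases h' with e | e | e | e | e
  · exact absurd (orderOf_eq_one_iff.mp e) hg
  all_goals rw [e]
  · exact Nat.prime_two.isPrimePow
  · exact Nat.prime_three.isPrimePow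
  · exact ⟨2, 2, Nat.prime_iff.mp Nat.prime_two, by norm_num, rfl⟩
  · exact (by norm_num : Nat.Prime 5).isPrimePow

theorem no_order (n : ℕ) (hn : 6 ≤ n) : ∀ g : G, orderOf g ≠ n := fun g e => by
  have := h.orderOf_cases g
  simp only [Finset.mem_insert, Finset.mem_singleton] at this
  omega

theorem pow_four {g : G} {k : ℕ} (hk : g ^ 2 ^ k = 1) : g ^ 4 = 1 := by
  refine (h g).elim id fun e => ?_
  have hg : g = 1 := by
    rcases e with e | e
    all_goals
      refine orderOf_eq_one_iff.mp (Nat.eq_one_of_dvd_coprimes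
        (?_ : Nat.Coprime (2 ^ k) _) (orderOf_dvd_of_pow_eq_one hk) (orderOf_dvd_of_pow_eq_one e))
      exact Nat.Coprime.pow_left k (by norm_num)
  rw [hg, one_pow]

theorem pow_four_of_mem {P : Subgroup G} (hP : IsPGroup 2 ↥P) {g : G} (hg : g ∈ P) : g ^ 4 = 1 := by
  obtain ⟨k, hk⟩ := hP ⟨g, hg⟩
  exact h.pow_four (k := k) (by simpa using congrArg Subtype.val hk)

theorem odd_pow {y : G} (hy : Odd (orderOf y)) : y ^ 3 = 1 ∨ y ^ 5 = 1 := by
  have h' := h.orderOf_cases y
  simp only [Finset.mem_insert, Finset.mem_singleton] at h'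
  rcases h' with e | e | e | e | e
  · left; rw [orderOf_eq_one_iff.mp e, one_pow]
  · rw [e] at hy; exact absurd hy (by decide)
  · left; rw [← e, pow_orderOf_eq_one]
  · rw [e] at hy; exact absurd hy (by decide)
  · right; rw [← e, pow_orderOf_eq_one]

theorem orderOf_odd {y : G} (hy : Odd (orderOf y)) (hy1 : y ≠ 1) : orderOf y = 3 ∨ orderOf y = 5 := by
  have h' := h.orderOf_cases y
  simp only [Finset.mem_insert, Finset.mem_singleton] at h'
  rcases h' with e | e | e | e | e
  · exact absurd (orderOf_eq_one_iff.mp e) hy1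
  · rw [e] at hy; exact absurd hy (by decide)
  · exact Or.inl e
  · rw [e] at hy; exact absurd hy (by decide)
  · exact Or.inr e

/-- A `2`-element commuting with a nontrivial element of odd order is trivial. -/
theorem eq_one_of_commute {x y : G} (hx : x ^ 4 = 1) (hy : Odd (orderOf y)) (hy1 : y ≠ 1)
    (hxy : Commute x y) : x = 1 := by
  by_contra hx1
  have hxo : orderOf x = 2 ∨ orderOf x = 4 := by
    obtain ⟨k, hk, e⟩ := (Nat.dvd_prime_pow Nat.prime_two).mp
      (show orderOf x ∣ 2 ^ 2 from orderOf_dvd_of_pow_eq_one hx)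
    interval_cases k
    · exact absurd (orderOf_eq_one_iff.mp e) hx1
    · exact Or.inl e
    · exact Or.inr e
  have hyo := h.orderOf_odd hy hy1
  have hc : Nat.Coprime (orderOf x) (orderOf y) := by
    rcases hxo with e | e <;> rcases hyo with e' | e' <;> rw [e, e'] <;> norm_num
  refine h.no_order _ ?_ (x * y) (hxy.orderOf_mul_eq_mul_orderOf_of_coprime hc)
  rcases hxo with e | e <;> rcases hyo with e' | e' <;> rw [e, e'] <;> norm_num

/-- A nontrivial element of odd order centralises no nontrivial element of a `2`-subgroup. -/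
theorem fpf {D : Subgroup G} (hD : IsPGroup 2 ↥D) {y : G} (hy : Odd (orderOf y)) (hy1 : y ≠ 1) :
    ∀ d ∈ D, Commute y d → d = 1 :=
  fun d hd hc => h.eq_one_of_commute (h.pow_four_of_mem hD hd) hy hy1 hc.symm

theorem centralizer_involution [Finite G] {t : G} (ht : orderOf t = 2) :
    IsPGroup 2 ↥(Subgroup.centralizer ({t} : Set G)) :=
  haveI := Fact.mk Nat.prime_two
  h.isPP.isPGroup_of_centralizes ht fun c hc => Subgroup.mem_centralizer_singleton_iff.mp hc

theorem centralizer_odd_isPGroup [Finite G] {p : ℕ} [Fact p.Prime] {y : G} (hy : orderOf y = p) :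
    IsPGroup p ↥(Subgroup.centralizer ({y} : Set G)) :=
  h.isPP.isPGroup_of_centralizes hy fun c hc => Subgroup.mem_centralizer_singleton_iff.mp hc

/-- Two involutions are conjugate or centralised by a common involution. -/
theorem conj_or_commute [Finite G] {s u : G} (hs : orderOf s = 2) (hu : orderOf u = 2) :
    IsConj s u ∨ ∃ w : G, orderOf w = 2 ∧ Commute w s ∧ Commute w u := by
  rcases Nat.even_or_odd (orderOf (s * u)) with he | ho
  · right
    obtain ⟨m, hm⟩ := he
    have hs1 : s * s = 1 := by rw [← pow_two, ← hs, pow_orderOf_eq_one]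
    have hu1 : u * u = 1 := by rw [← pow_two, ← hu, pow_orderOf_eq_one]
    have hpos := orderOf_pos (s * u)
    have hw : orderOf ((s * u) ^ m) = 2 := by
      rw [orderOf_pow_of_dvd (by omega) (Dvd.intro 2 (by omega)), hm, ← two_mul,
        Nat.mul_div_cancel _ (by omega : 0 < m)]
    have hinv : ((s * u) ^ m)⁻¹ = (s * u) ^ m :=
      inv_eq_of_mul_eq_one_right (by rw [← pow_add, ← hm, pow_orderOf_eq_one])
    have hcs : s * (s * u) ^ m * s⁻¹ = (s * u) ^ m := by
      rw [← conj_pow, show s * (s * u) * s⁻¹ = (s * u)⁻¹ by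
        rw [mul_inv_rev, inv_eq_of_mul_eq_one_right hu1, inv_eq_of_mul_eq_one_right hs1, ← mul_assoc, hs1,
          one_mul], inv_pow, hinv]
    have h1 : Commute ((s * u) ^ m) s := (mul_inv_eq_iff_eq_mul.mp hcs).symm
    refine ⟨_, hw, h1, ?_⟩
    have h2 : Commute ((s * u) ^ m) (s * (s * u)) := h1.mul_right (Commute.pow_self _ m)
    rwa [← mul_assoc, hs1, one_mul] at h2
  · obtain ⟨c, -, hc⟩ := CfsgLib.Blocks.NoTwoP.exists_conj_of_odd hs hu ho
    exact Or.inl (isConj_iff.mpr ⟨c, hc.symm⟩)

end SF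

/-- A simple group has no Sylow `2`-subgroup with a single involution. -/
theorem exists_two_involutions [Finite G] [IsSimpleGroup G] (hG : ¬ IsMulCommutative G) (P : Sylow 2 G)
    {z : G} (hz : orderOf z = 2) (hzP : z ∈ P) : ∃ w : G, orderOf w = 2 ∧ w ∈ P ∧ w ≠ z := by
  by_contra hne
  push Not at hne
  obtain ⟨N, hN, hodd, hc⟩ := CfsgLib.ZStar.exists_normal_odd_commutator_mem P z hz hzP fun g hg =>
    hne _ (by rw [← hz]; exact (MulAut.conj g).orderOf_eq z) hg
  rcases Subgroup.Normal.eq_bot_or_eq_top hN with rfl | rfl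
  · have hzc : z ∈ Subgroup.center G := Subgroup.mem_center_iff.mpr fun g => by
      have := Subgroup.mem_bot.mp (hc g)
      rw [mul_inv_eq_one, mul_inv_eq_iff_eq_mul] at this
      exact this.symm
    rcases Subgroup.Normal.eq_bot_or_eq_top (inferInstance : (Subgroup.center G).Normal) with hb | ht
    · have : z = 1 := Subgroup.mem_bot.mp (hb ▸ hzc)
      rw [this, orderOf_one] at hz
      norm_num at hz
    · exact hG ⟨⟨fun a b => (Subgroup.mem_center_iff.mp (ht ▸ Subgroup.mem_top a) b).symm⟩⟩
  · rw [Nat.card_congr (Subgroup.topEquiv).toEquiv] at hodd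
    have := orderOf_dvd_natCard z
    rw [hz] at this
    exact Nat.not_even_iff_odd.mpr hodd (even_iff_two_dvd.mpr this)

/-- If every other Sylow subgroup meets `P` trivially, their number is `1` modulo `|P|`. -/
theorem card_sylow_modEq_card_of_ti [Finite G] {p : ℕ} [Fact p.Prime] (P : Sylow p G)
    (h : ∀ Q : Sylow p G, Q ≠ P → (P : Subgroup G) ⊓ (Q : Subgroup G) = ⊥) :
    Nat.card (Sylow p G) ≡ 1 [MOD Nat.card (P : Subgroup G)] := by
  classical
  letI := Fintype.ofFinite (Sylow p G)
  letI := Fintype.ofFinite (MulAction.orbitRel.Quotient (P : Subgroup G) (Sylow p G))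
  have hst : ∀ Q : Sylow p G, MulAction.stabilizer (P : Subgroup G) Q = if Q = P then ⊤ else ⊥ := by
    intro Q
    have h1 : MulAction.stabilizer (P : Subgroup G) Q =
        (Subgroup.normalizer (Q : Set G)).subgroupOf (P : Subgroup G) := by
      ext y
      rw [MulAction.mem_stabilizer_iff, Subgroup.mem_subgroupOf, Subgroup.smul_def]
      exact Sylow.smul_eq_iff_mem_normalizer
    rw [h1, ← Subgroup.inf_subgroupOf_left, P.2.inf_normalizer_sylow Q, Subgroup.inf_subgroupOf_left]
    split_ifs with hQ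
    · rw [hQ, Subgroup.subgroupOf_self]
    · rw [Subgroup.subgroupOf_eq_bot, disjoint_comm, disjoint_iff]
      exact h Q hQ
  have hcard : Nat.card (Sylow p G) =
      ∑ ω : MulAction.orbitRel.Quotient (P : Subgroup G) (Sylow p G),
        (MulAction.stabilizer (P : Subgroup G) ω.out).index := by
    rw [Nat.card_congr (MulAction.selfEquivSigmaOrbitsQuotientStabilizer (P : Subgroup G) (Sylow p G)),
      Nat.card_sigma]
    rfl
  set ω₀ : MulAction.orbitRel.Quotient (P : Subgroup G) (Sylow p G) := Quotient.mk'' P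
  have hout : ∀ ω, ω.out = P ↔ ω = ω₀ := by
    intro ω
    constructor
    · intro he; rw [← Quotient.out_eq' ω, he]
    · rintro rfl
      have hrel : (MulAction.orbitRel (P : Subgroup G) (Sylow p G)).r ω₀.out P := Quotient.mk_out' P
      obtain ⟨y, hy⟩ := MulAction.mem_orbit_iff.mp (MulAction.orbitRel_apply.mp hrel)
      rw [← hy]
      have := hst P
      rw [if_pos rfl] at this
      exact MulAction.mem_stabilizer_iff.mp (this ▸ Subgroup.mem_top y)
  rw [hcard, ← Finset.add_sum_erase _ _ (Finset.mem_univ ω₀), hst, if_pos ((hout ω₀).mpr rfl),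
    Subgroup.index_top]
  refine Nat.ModEq.trans (Nat.ModEq.add_left 1 (Nat.modEq_zero_iff_dvd.mpr ?_)) (by rw [add_zero])
  refine Finset.dvd_sum fun ω hω => ?_
  rw [hst, if_neg (fun he => Finset.ne_of_mem_erase hω ((hout ω).mp he)), Subgroup.index_bot]

/-- The structure forced by an inverted element of order `p`. -/
theorem SF.inverted [Finite G] (h : SF G) {p : ℕ} [Fact p.Prime] (hp : p = 3 ∨ p = 5) {t y : G}
    (ht : orderOf t = 2) (hy : orderOf y = p) (hty : t * y * t⁻¹ = y⁻¹) :
    ∃ P : Sylow p G, y ∈ (P : Subgroup G) ∧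
      (∀ x ∈ (P : Subgroup G), t * x * t⁻¹ = x⁻¹) ∧
      ∀ x ∈ (P : Subgroup G), x ≠ 1 → Subgroup.centralizer ({x} : Set G) = (P : Subgroup G) := by
  obtain ⟨P, hyP, hinv⟩ := CfsgLib.Blocks.NoTwoP.exists_inverted_sylow
    (p := p) (by rcases hp with rfl | rfl <;> norm_num)
    (fun g => h.no_order _ (by rcases hp with rfl | rfl <;> norm_num) g) ht
    (fun e => by rw [e, orderOf_one] at hy; exact (Fact.out : p.Prime).one_lt.ne hy)
    ⟨1, by rw [hy, pow_one]⟩ hty
  refine ⟨P, hyP, hinv, fun x hx hx1 => ?_⟩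
  have hab : ∀ a ∈ (P : Subgroup G), ∀ b ∈ (P : Subgroup G), a * b = b * a := fun a ha b hb => by
    have h' := hinv _ (mul_mem (inv_mem ha) (inv_mem hb))
    rw [show t * (a⁻¹ * b⁻¹) * t⁻¹ = (t * a⁻¹ * t⁻¹) * (t * b⁻¹ * t⁻¹) by group, hinv _ (inv_mem ha),
      hinv _ (inv_mem hb), inv_inv, inv_inv, mul_inv_rev, inv_inv, inv_inv] at h'
    exact h'
  have hxo : orderOf x = p := by
    obtain ⟨k, hk⟩ := P.isPGroup' ⟨x, hx⟩
    have hxk : x ^ p ^ k = 1 := by simpa using congrArg Subtype.val hk
    obtain ⟨j, -, hj⟩ := (Nat.dvd_prime_pow (Fact.out : p.Prime)).mp (orderOf_dvd_of_pow_eq_one hxk)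
    have h' := h.orderOf_cases x
    simp only [Finset.mem_insert, Finset.mem_singleton] at h'
    match j, hj with
    | 0, hj => exact absurd (orderOf_eq_one_iff.mp (by rw [hj, pow_zero])) hx1
    | 1, hj => rw [hj, pow_one]
    | j + 2, hj =>
      exfalso
      have : p ^ 2 ≤ p ^ (j + 2) := Nat.pow_le_pow_right (Fact.out : p.Prime).pos (by omega)
      rcases hp with rfl | rfl <;> omega
  exact (P.is_maximal' (h.centralizer_odd_isPGroup hxo) fun a ha =>
    Subgroup.mem_centralizer_singleton_iff.mpr (hab a ha x hx))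

/-- An abelian inverted Sylow subgroup: number of its conjugates and index in its normaliser. -/
theorem SF.sylow_count [Finite G] {p : ℕ} [Fact p.Prime] (P : Sylow p G)
    (hC : ∀ x ∈ (P : Subgroup G), x ≠ 1 → Subgroup.centralizer ({x} : Set G) = (P : Subgroup G)) :
    Nat.card (Sylow p G) ≡ 1 [MOD Nat.card (P : Subgroup G)] ∧
    ∃ m : ℕ, m ∣ Nat.card (P : Subgroup G) - 1 ∧
      Nat.card (Sylow p G) * (Nat.card (P : Subgroup G) * m) = Nat.card G := by
  refine ⟨CfsgLib.SpecFive.card_sylow_modEq_card_of_ti P fun Q hQ => ?_, _,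
    Cfsg.Agent.S0196.result _ hC, ?_⟩
  · by_contra hne
    obtain ⟨x, hxPQ, hx1⟩ := (Subgroup.bot_or_exists_ne_one _).resolve_left hne
    obtain ⟨R, hR⟩ := MulAction.exists_smul_eq G P Q
    refine hQ ?_
    rw [← hR, Sylow.smul_eq_iff_mem_normalizer]
    by_contra hRn
    have hx' : R⁻¹ * x * R ∈ (P : Subgroup G) := by
      have := hxPQ.2
      rw [← hR, Sylow.smul_def, Sylow.pointwise_smul_def] at this
      simpa using (Subgroup.mem_pointwise_smul_iff_inv_smul_mem.mp this)
    exact hx1 (Cfsg.Agent.S0195.result _ hC R⁻¹ (fun hm => hRn (by simpa using inv_mem hm)) x hxPQ.1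
      (by simpa using hx'))
  · rw [Sylow.card_eq_index_normalizer P]
    set N := Subgroup.normalizer ((P : Subgroup G) : Set G)
    rw [← Nat.card_congr (Subgroup.subgroupOfEquivOfLe (show (P : Subgroup G) ≤ N from Subgroup.le_normalizer)).toEquiv,
      Subgroup.card_mul_index]
    exact Subgroup.index_mul_card N

end CfsgLib.SpecFive
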