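import Mathlib

/-!
# A fixed point free automorphism of odd order inverted by an involution

A finite `2`-group with such a pair of automorphisms, in which the coset of the involution has all
elements of order at most four, is elementary abelian and is the square of the fixed point group of
the involution.
-/

set_option autoImplicit false
set_option linter.style.haveILetI false
set_option linter.unusedSectionVars false

open scoped commutatorElement

namespace CfsgLib.SpecFive

/-- The hypotheses on the pair of automorphisms. -/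
structure Pair (N : Type*) [Group N] where
  σ : N ≃* N
  τ : N ≃* N
  r : ℕ
  odd : Odd r
  pow : ∀ g, σ^[r] g = g
  fpf : ∀ g, σ g = g → g = 1
  inv : ∀ g, σ (τ (σ g)) = τ g
  invol : ∀ g, τ (τ g) = g
  quad : ∀ x, (x * τ x) ^ 2 = 1

namespace Pair

variable {N : Type*} [Group N] [Finite N] (P : Pair N)

theorem eq_one_of_sq_fix {g : N} (h : P.σ (P.σ g) = g) : g = 1 := by
  obtain ⟨j, hj⟩ := P.odd
  have h2 : ∀ i, P.σ^[2 * i] g = g := fun i => by
    induction i with
    | zero => rfl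
    | succ i ih =>
      rw [show 2 * (i + 1) = 2 * i + 2 by ring, Function.iterate_add_apply]
      show P.σ^[2 * i] (P.σ (P.σ g)) = g
      rw [h, ih]
  have := P.pow g
  rw [hj, show 2 * j + 1 = (2 * j).succ from rfl, Function.iterate_succ_apply', h2] at this
  exact P.fpf g this

theorem mk_surj (k : ℕ) (hk : k = 1 ∨ k = 2) :
    Function.Surjective (fun z : N => z⁻¹ * P.σ^[k] z) := by
  refine Finite.injective_iff_surjective.mp fun a b hab => ?_
  have h' : P.σ^[k] a = a * (b⁻¹ * P.σ^[k] b) := by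
    rw [← mul_inv_cancel_left a (P.σ^[k] a)]; exact congrArg (a * ·) hab
  rcases hk with rfl | rfl
  · simp only [Function.iterate_one] at h'
    refine (mul_inv_eq_one.mp (P.fpf (b * a⁻¹) ?_)).symm
    rw [map_mul, map_inv, h']
    group
  · have h'' : P.σ (P.σ a) = a * (b⁻¹ * P.σ (P.σ b)) := h'
    refine (mul_inv_eq_one.mp (P.eq_one_of_sq_fix (g := b * a⁻¹) ?_)).symm
    rw [map_mul, map_inv, map_mul, map_inv, h'']
    group

theorem map_mem_center (e : N ≃* N) {z : N} (hz : z ∈ Subgroup.center N) : e z ∈ Subgroup.center N :=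
  Subgroup.mem_center_iff.mpr fun g => by
    obtain ⟨g, rfl⟩ := e.surjective g
    rw [← map_mul, ← map_mul, Subgroup.mem_center_iff.mp hz g]

theorem map_center (e : N ≃* N) : (Subgroup.center N).map e.toMonoidHom = Subgroup.center N := by
  refine le_antisymm ?_ fun z hz => ⟨e.symm z, map_mem_center e.symm hz, e.apply_symm_apply z⟩
  rintro _ ⟨z, hz, rfl⟩
  exact map_mem_center e hz

/-- The pair induced on the central quotient. -/
noncomputable def quot : Pair (N ⧸ Subgroup.center N) where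
  σ := QuotientGroup.congr _ _ P.σ (map_center _)
  τ := QuotientGroup.congr _ _ P.τ (map_center _)
  r := P.r
  odd := P.odd
  pow := fun x => by
    induction x using QuotientGroup.induction_on with
    | _ g =>
      have : ∀ i, (QuotientGroup.congr _ _ P.σ (map_center _))^[i] (g : N ⧸ Subgroup.center N)
          = ((P.σ^[i] g : N) : N ⧸ Subgroup.center N) := fun i => by
        induction i with
        | zero => rfl
        | succ i ih => rw [Function.iterate_succ_apply', ih, Function.iterate_succ_apply']; rfl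
      rw [this, P.pow]
  fpf := by
    have hsur : Function.Surjective (fun z : N ⧸ Subgroup.center N =>
        z⁻¹ * QuotientGroup.congr _ _ P.σ (map_center _) z) := fun y => by
      obtain ⟨g, rfl⟩ := QuotientGroup.mk_surjective y
      obtain ⟨z, hz⟩ := P.mk_surj 1 (Or.inl rfl) g
      refine ⟨(z : N ⧸ Subgroup.center N), ?_⟩
      show ((z⁻¹ * P.σ z : N) : N ⧸ Subgroup.center N) = _
      exact congrArg _ hz
    intro x hx
    refine Finite.injective_iff_surjective.mpr hsur ?_
    show x⁻¹ * _ = (1 : N ⧸ Subgroup.center N)⁻¹ * _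
    rw [hx, map_one, inv_mul_cancel, inv_one, one_mul]
  inv := fun x => by
    induction x using QuotientGroup.induction_on with
    | _ g => exact congrArg (QuotientGroup.mk' _) (P.inv g)
  invol := fun x => by
    induction x using QuotientGroup.induction_on with
    | _ g => exact congrArg (QuotientGroup.mk' _) (P.invol g)
  quad := fun x => by
    induction x using QuotientGroup.induction_on with
    | _ g => exact congrArg (QuotientGroup.mk' _) (P.quad g)

include P in
theorem center_sq {z : N} (hz : z ∈ Subgroup.center N) : z ^ 2 = 1 := by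
  have h1 : ∀ v ∈ Subgroup.center N, P.τ (v ^ 2) = (v ^ 2)⁻¹ := fun v hv => by
    have := P.quad v
    rw [(show Commute v (P.τ v) from (Subgroup.mem_center_iff.mp hv (P.τ v)).symm).mul_pow] at this
    rw [map_pow]
    exact eq_inv_of_mul_eq_one_right this
  have h2 := h1 _ (map_mem_center P.σ hz)
  rw [← map_pow] at h2
  have h3 := P.inv (z ^ 2)
  rw [h2, h1 z hz, map_inv, inv_inj] at h3
  exact P.eq_one_of_sq_fix h3

/-- In exponent two every element is a product of fixed points and images of fixed points. -/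
theorem decompose (hc : ∀ x y : N, x * y = y * x) (h2 : ∀ x : N, x * x = 1) (v : N) :
    ∃ a b, v = a * P.τ a * P.σ (b * P.τ b) := by
  letI : CommGroup N := { (inferInstance : Group N) with mul_comm := hc }
  let R : Subgroup N :=
    { carrier := {v | ∃ a b, v = a * P.τ a * P.σ (b * P.τ b)}
      one_mem' := ⟨1, 1, by simp⟩
      mul_mem' := by
        rintro _ _ ⟨a, b, rfl⟩ ⟨c, d, rfl⟩
        exact ⟨a * c, b * d, by simp only [map_mul]; ac_rfl⟩
      inv_mem' := fun {x} h => by rwa [inv_eq_of_mul_eq_one_right (h2 x)] }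
  have hU : ∀ a, a * P.τ a ∈ R := fun a => ⟨a, 1, by simp⟩
  have hS : ∀ a, P.σ (a * P.τ a) ∈ R := fun a => ⟨1, a, by simp⟩
  have hτσ : ∀ g, P.τ (P.σ g) = P.σ.symm (P.τ g) := fun g =>
    P.σ.injective (by rw [P.inv, P.σ.apply_symm_apply])
  have hτσ' : ∀ g, P.τ (P.σ.symm g) = P.σ (P.τ g) := fun g => by
    conv_rhs => rw [← P.σ.apply_symm_apply g, hτσ, P.σ.apply_symm_apply]
  have hS2 : ∀ x ∈ R, P.σ x ∈ R := by
    rintro _ ⟨a, b, rfl⟩
    rw [map_mul]
    refine mul_mem (hS a) ⟨b, P.σ b * P.σ.symm b, ?_⟩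
    simp only [map_mul, hτσ, hτσ', P.σ.apply_symm_apply]
    calc P.σ (P.σ b) * P.σ (P.σ (P.τ b))
        = (b * P.τ b) * (b * P.τ b) * (P.σ (P.σ b) * P.σ (P.σ (P.τ b))) := by rw [h2, one_mul]
      _ = b * P.τ b * (P.σ (P.σ b) * b * (P.τ b * P.σ (P.σ (P.τ b)))) := by ac_rfl
  have hkey : ∀ g, g⁻¹ * P.σ (P.σ g) ∈ R := fun g => by
    have h := mul_mem (hS2 _ (hU (P.σ g))) (hU g)
    rw [map_mul, P.inv] at h
    rw [show g⁻¹ = g from inv_eq_of_mul_eq_one_right (h2 g)]
    have e : g * P.σ (P.σ g) = P.σ (P.σ g) * P.τ g * (g * P.τ g) := by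
      calc g * P.σ (P.σ g) = P.σ (P.σ g) * g * (P.τ g * P.τ g) := by rw [h2, mul_one, mul_comm]
        _ = _ := by ac_rfl
    exact e ▸ h
  obtain ⟨z, hz⟩ := P.mk_surj 2 (Or.inr rfl) v
  exact (hz ▸ hkey z : v ∈ R)

theorem elementary : ∀ (n : ℕ) {M : Type*} [Group M] [Finite M], Nat.card M = n → IsPGroup 2 M →
    Pair M → (∀ x y : M, x * y = y * x) ∧ ∀ x : M, x ^ 2 = 1 := by
  intro n
  induction n using Nat.strong_induction_on with
  | _ n ih =>
  intro M _ _ hn hM P
  rcases subsingleton_or_nontrivial M with h | h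
  · exact ⟨fun _ _ => Subsingleton.elim _ _, fun _ => Subsingleton.elim _ _⟩
  haveI : Fact (Nat.Prime 2) := ⟨Nat.prime_two⟩
  haveI := hM.center_nontrivial
  set Z := Subgroup.center M
  have hlt : Nat.card (M ⧸ Z) < n := by
    rw [← hn, Subgroup.card_eq_card_quotient_mul_card_subgroup Z]
    exact lt_mul_of_one_lt_right Nat.card_pos Finite.one_lt_card
  obtain ⟨hqc, hq2⟩ := ih _ hlt rfl (hM.to_quotient Z) P.quot
  set π := QuotientGroup.mk' Z
  have hmem : ∀ x y : M, π x = π y → x⁻¹ * y ∈ Z := fun x y he => by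
    rw [← QuotientGroup.eq_one_iff]
    show π _ = 1
    rw [map_mul, map_inv, he, inv_mul_cancel]
  set f : M → M → M := fun a b => ⁅a, b⁆
  have hfZ : ∀ a b, f a b ∈ Z := fun a b => by
    rw [← QuotientGroup.eq_one_iff]
    show π ⁅a, b⁆ = 1
    rw [map_commutatorElement]
    exact commutatorElement_eq_one_iff_mul_comm.mpr (hqc _ _)
  have hfc : ∀ a b r, r * f a b = f a b * r := fun a b r => Subgroup.mem_center_iff.mp (hfZ a b) r
  have hl : ∀ a a' b, f (a * a') b = f a b * f a' b := fun a a' b => by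
    have e : f (a * a') b = a * f a' b * a⁻¹ * f a b := by simp only [f, commutatorElement_def]; group
    rw [e, hfc a' b a, mul_inv_cancel_right, hfc a b]
  have hr : ∀ a b b', f a (b * b') = f a b * f a b' := fun a b b' => by
    have e : f a (b * b') = f a b * (b * f a b' * b⁻¹) := by simp only [f, commutatorElement_def]; group
    rw [e, hfc a b' b, mul_inv_cancel_right]
  have hzl : ∀ z ∈ Z, ∀ b, f z b = 1 := fun z hz b =>
    commutatorElement_eq_one_iff_mul_comm.mpr (Subgroup.mem_center_iff.mp hz b).symm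
  have hzr : ∀ z ∈ Z, ∀ b, f b z = 1 := fun z hz b =>
    commutatorElement_eq_one_iff_mul_comm.mpr (Subgroup.mem_center_iff.mp hz b)
  have hf2 : ∀ a b, f a b * f a b = 1 := fun a b => by
    have := P.center_sq (hfZ a b)
    rwa [pow_two] at this
  set U : M → M := fun x => x * P.τ x
  have hUU : ∀ a b, f (U a) (U b) = 1 := fun a b => by
    obtain ⟨z, hz, he⟩ : ∃ z ∈ Z, U (a * b) = U a * U b * z := by
      refine ⟨(U a * U b)⁻¹ * U (a * b), hmem _ _ ?_, (mul_inv_cancel_left _ _).symm⟩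
      simp only [U, map_mul]
      rw [mul_assoc, ← mul_assoc (π (P.τ a)), hqc (π (P.τ a)) (π b)]
      group
    have h := P.quad (a * b)
    change U (a * b) ^ 2 = 1 at h
    rw [he, (show Commute (U a * U b) z from Subgroup.mem_center_iff.mp hz _).mul_pow, P.center_sq hz,
      mul_one, pow_two] at h
    show U a * U b * (U a)⁻¹ * (U b)⁻¹ = 1
    have ha : (U a)⁻¹ = U a := inv_eq_of_mul_eq_one_right (by rw [← pow_two]; exact P.quad a)
    have hb : (U b)⁻¹ = U b := inv_eq_of_mul_eq_one_right (by rw [← pow_two]; exact P.quad b)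
    rw [ha, hb, mul_assoc (U a * U b)]
    exact h
  have hdec : ∀ x, ∃ a b z, z ∈ Z ∧ x = U a * P.σ (U b) * z := fun x => by
    obtain ⟨a', b', h'⟩ := P.quot.decompose hqc (fun q => by rw [← pow_two]; exact hq2 q) (π x)
    obtain ⟨a, rfl⟩ := QuotientGroup.mk_surjective a'
    obtain ⟨b, rfl⟩ := QuotientGroup.mk_surjective b'
    refine ⟨a, b, (U a * P.σ (U b))⁻¹ * x, hmem _ _ ?_, (mul_inv_cancel_left _ x).symm⟩
    rw [h']
    rfl
  have hσ2 : ∀ b, ∃ c z, z ∈ Z ∧ P.σ (P.σ (U b)) = P.σ (U c) * U b * z := fun b => by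
    obtain ⟨a, c, z, hz, he⟩ := hdec (P.σ (P.σ (U b)))
    refine ⟨P.σ b * P.σ.symm b,
      (P.σ (U (P.σ b * P.σ.symm b)) * U b)⁻¹ * P.σ (P.σ (U b)), hmem _ _ ?_,
      (mul_inv_cancel_left _ _).symm⟩
    have hsq : ∀ q : M, π q * π q = 1 := fun q => by rw [← pow_two]; exact hq2 _
    have hτσ : ∀ g, P.τ (P.σ g) = P.σ.symm (P.τ g) := fun g =>
      P.σ.injective (by rw [P.inv, P.σ.apply_symm_apply])
    have hτσ' : ∀ g, P.τ (P.σ.symm g) = P.σ (P.τ g) := fun g => by
      conv_rhs => rw [← P.σ.apply_symm_apply g, hτσ, P.σ.apply_symm_apply]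
    letI : CommGroup (M ⧸ Z) := { (inferInstance : Group (M ⧸ Z)) with mul_comm := hqc }
    simp only [U, map_mul, hτσ, hτσ', P.σ.apply_symm_apply]
    calc π (P.σ (P.σ b)) * π b * (π (P.τ b) * π (P.σ (P.σ (P.τ b)))) * (π b * π (P.τ b))
        = (π b * π b) * (π (P.τ b) * π (P.τ b)) * (π (P.σ (P.σ b)) * π (P.σ (P.σ (P.τ b)))) := by ac_rfl
      _ = _ := by rw [hsq, hsq, one_mul, one_mul]
  have hγ : ∀ a b, P.σ (f (U a) (P.σ (U b))) = f (U b) (P.σ (U a)) := fun a b => by
    obtain ⟨c, z, hz, he⟩ := hσ2 b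
    show P.σ ⁅U a, P.σ (U b)⁆ = _
    rw [map_commutatorElement, he]
    show f (P.σ (U a)) _ = _
    rw [hr, hzr z hz, mul_one, hr]
    have : f (P.σ (U a)) (P.σ (U c)) = 1 := by
      show ⁅P.σ (U a), P.σ (U c)⁆ = 1
      rw [← map_commutatorElement, show ⁅U a, U c⁆ = 1 from hUU a c, map_one]
    rw [this, one_mul]
    rw [show f (P.σ (U a)) (U b) = (f (U b) (P.σ (U a)))⁻¹ from (commutatorElement_inv _ _).symm]
    exact inv_eq_of_mul_eq_one_right (hf2 _ _)
  have hγ1 : ∀ a b, f (U a) (P.σ (U b)) = 1 := fun a b => P.eq_one_of_sq_fix (by rw [hγ, hγ])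
  have hone : ∀ x y, f x y = 1 := fun x y => by
    obtain ⟨a, b, z, hz, rfl⟩ := hdec x
    obtain ⟨c, d, z', hz', rfl⟩ := hdec y
    have h1 : f (P.σ (U b)) (P.σ (U d)) = 1 := by
      show ⁅P.σ (U b), P.σ (U d)⁆ = 1
      rw [← map_commutatorElement, show ⁅U b, U d⁆ = 1 from hUU b d, map_one]
    have h2 : f (P.σ (U b)) (U c) = 1 := by
      rw [show f (P.σ (U b)) (U c) = (f (U c) (P.σ (U b)))⁻¹ from (commutatorElement_inv _ _).symm, hγ1,
        inv_one]
    simp only [hl, hr, hzl z hz, hzr z' hz', mul_one, hUU, h1, h2, hγ1]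
  have hab : ∀ x y : M, x * y = y * x := fun x y => commutatorElement_eq_one_iff_mul_comm.mp (hone x y)
  exact ⟨hab, fun x => P.center_sq (Subgroup.mem_center_iff.mpr fun r => hab r x)⟩

theorem card_eq (hN : IsPGroup 2 N) : Nat.card N = Nat.card {x : N // P.τ x = x} ^ 2 := by
  obtain ⟨hc, h2⟩ := elementary _ rfl hN P
  have h2' : ∀ x : N, x * x = 1 := fun x => by rw [← pow_two]; exact h2 x
  rw [pow_two, ← Nat.card_prod]
  refine (Nat.card_congr (Equiv.ofBijective
    (fun q : {x : N // P.τ x = x} × {x : N // P.τ x = x} => (q.1 : N) * P.σ q.2) ⟨?_, ?_⟩)).symm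
  · rintro ⟨⟨a, ha⟩, b, hb⟩ ⟨⟨a', ha'⟩, b', hb'⟩ h
    have h : a * P.σ b = a' * P.σ b' := h
    have hfix : P.σ (b * b'⁻¹) = a⁻¹ * a' := by
      rw [map_mul, map_inv, mul_inv_eq_iff_eq_mul, mul_assoc, ← h, inv_mul_cancel_left]
    have hd := P.inv (b * b'⁻¹)
    rw [hfix, map_mul P.τ, map_inv, ha, ha', ← hfix, map_mul P.τ, map_inv, hb, hb'] at hd
    have := P.eq_one_of_sq_fix hd
    rw [mul_inv_eq_one] at this
    subst this
    have := mul_right_cancel h
    subst this
    rfl
  · intro v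
    obtain ⟨a, b, rfl⟩ := P.decompose hc h2' v
    exact ⟨(⟨a * P.τ a, by rw [map_mul, P.invol, hc]⟩, ⟨b * P.τ b, by rw [map_mul, P.invol, hc]⟩), rfl⟩

end Pair

/-- The version inside a group. -/
theorem elementary_of_inverted {G : Type*} [Group G] [Finite G] {D : Subgroup G} (hD : IsPGroup 2 ↥D)
    {y t : G} (hy : y ∈ Subgroup.normalizer (D : Set G)) (ht : t ∈ Subgroup.normalizer (D : Set G))
    {r : ℕ} (hr : Odd r) (hyr : y ^ r = 1) (ht2 : t * t = 1) (hyt : t * y * t = y⁻¹)
    (hfpf : ∀ d ∈ D, Commute y d → d = 1) (hq : ∀ d ∈ D, (d * t) ^ 4 = 1) :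
    (∀ a ∈ D, ∀ b ∈ D, a * b = b * a) ∧ (∀ a ∈ D, a ^ 2 = 1) ∧
      Nat.card ↥D = Nat.card ↥(D ⊓ Subgroup.centralizer {t}) ^ 2 := by
  have hmem : ∀ {u : G}, u ∈ Subgroup.normalizer (D : Set G) → ∀ d ∈ D, u * d * u⁻¹ ∈ D :=
    fun hu d hd => (Subgroup.mem_normalizer_iff.mp hu d).mp hd
  have hti : t⁻¹ = t := inv_eq_of_mul_eq_one_right ht2
  have htt : ∀ g : G, t * (t * g) = g := fun g => by rw [← mul_assoc, ht2, one_mul]
  let mkAut : ∀ u ∈ Subgroup.normalizer (D : Set G), ↥D ≃* ↥D := fun u hu =>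
    { toFun := fun d => ⟨u * d * u⁻¹, hmem hu d d.2⟩
      invFun := fun d => ⟨u⁻¹ * d * u, by simpa using hmem (inv_mem hu) d d.2⟩
      left_inv := fun d => Subtype.ext (by simp [mul_assoc])
      right_inv := fun d => Subtype.ext (by simp [mul_assoc])
      map_mul' := fun a b => Subtype.ext (by simp [mul_assoc]) }
  have hpow : ∀ (i : ℕ) (d : ↥D), (((mkAut y hy)^[i] d : ↥D) : G) = y ^ i * d * (y ^ i)⁻¹ := fun i => by
    induction i with
    | zero => intro d; simp
    | succ i ih =>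
      intro d
      rw [Function.iterate_succ_apply', pow_succ']
      show y * (((mkAut y hy)^[i] d : ↥D) : G) * y⁻¹ = _
      rw [ih]
      group
  let P : Pair ↥D :=
    { σ := mkAut y hy
      τ := mkAut t ht
      r := r
      odd := hr
      pow := fun d => Subtype.ext (by rw [hpow, hyr]; simp)
      fpf := fun d hd => Subtype.ext (hfpf d d.2
        (mul_inv_eq_iff_eq_mul.mp (congrArg Subtype.val hd)))
      inv := fun d => Subtype.ext (by
        show y * (t * (y * d * y⁻¹) * t⁻¹) * y⁻¹ = t * d * t⁻¹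
        have e : y * t * y = t := by
          calc y * t * y = y * (t * y * t) * t := by simp [mul_assoc, ht2]
            _ = t := by rw [hyt, mul_inv_cancel, one_mul]
        calc y * (t * (y * d * y⁻¹) * t⁻¹) * y⁻¹ = (y * t * y) * d * (y * t * y)⁻¹ := by group
          _ = t * d * t⁻¹ := by rw [e])
      invol := fun d => Subtype.ext (by
        show t * (t * d * t⁻¹) * t⁻¹ = d
        rw [hti]; simp [mul_assoc, htt, ht2])
      quad := fun d => Subtype.ext (by
        have := hq d d.2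
        show ((d : G) * (t * d * t⁻¹)) ^ 2 = 1
        rw [hti]
        rw [show ((d : G) * (t * d * t)) ^ 2 = ((d : G) * t) ^ 4 by
          rw [show 4 = 2 * 2 from rfl, pow_mul]; simp [pow_two, mul_assoc]]
        exact this) }
  obtain ⟨h1, h2⟩ := Pair.elementary _ rfl hD P
  refine ⟨fun a ha b hb => congrArg Subtype.val (h1 ⟨a, ha⟩ ⟨b, hb⟩),
    fun a ha => congrArg Subtype.val (h2 ⟨a, ha⟩), ?_⟩
  rw [P.card_eq hD]
  congr 1
  refine Nat.card_congr
    { toFun := fun d => ⟨(d.1 : G), d.1.2, Subgroup.mem_centralizer_singleton_iff.mpr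
        (mul_inv_eq_iff_eq_mul.mp (congrArg Subtype.val d.2)).symm⟩
      invFun := fun d => ⟨⟨(d : G), d.2.1⟩, Subtype.ext
        (mul_inv_eq_iff_eq_mul.mpr (Subgroup.mem_centralizer_singleton_iff.mp d.2.2).symm)⟩
      left_inv := fun _ => rfl
      right_inv := fun _ => rfl }

end CfsgLib.SpecFive
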